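import Groth.Agent.Lib.UnifReg.Main
import Groth.Agent.Lib.ProjCoh.Horrocks
import Groth.Agent.Lib.PosLin.SectionBound
import Groth.Agent.Lib.ZeroCyc99.Twist
import Groth.Agent.Lib.ProjCoh.Scalars

/-!
# `h⁰(F(-1)) < h⁰(F)` without associated closed points
-/

noncomputable section

universe u

open CategoryTheory CategoryTheory.Limits AlgebraicGeometry TopologicalSpace Opposite

namespace Groth.Agent.H95.H0Drop

open Groth.Agent.Lib Groth.Agent.Lib.TensorMod.Basic ProjCoh.Coherent UnifReg.Hyperplane UnifReg.Step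

variable {n : ℕ} {k : Type u} [Field k]

local notation "P" => CohB1.ProjSpace n k
local notation "𝒫" => CohB1.polyGrading n k

theorem isAssPoint_tM {M : (P).Modules} (t : ℤ) {x : P} (h : Curv2.IsAssPoint (tM M t) x) :
    Curv2.IsAssPoint M x := by
  obtain ⟨φ⟩ := Snapper.Twist.exists_stalkEquiv_twist (isInvertible_tw t) M x
  exact LinearEquiv.isAssociatedPrime_iff ((LinearEquiv.ofBijective
    (Modules.StalkModule.stalkMapₗ (comm M (tw n k t)).hom x)
    ((Modules.StalkModule.isIso_iff_stalkMapₗ_bijective _).mp inferInstance x)) ≪≫ₗ φ) |>.mp h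

/-- The section of `O(1)` given by a linear form. -/
def sec (f : (𝒫) 1) : Coh.structureModule P ⟶ tw n k 1 :=
  Modules.Free.unitHom (tw n k 1) (ZeroCyc99.Twist.gs (𝒜 := 𝒫) f)

theorem covers_one : ZeroCyc99.Twist.Covers (𝒫) 1 := fun x => by
  obtain ⟨i, hi⟩ := ZeroCyc99.Twist.exists_notMem (𝒜 := 𝒫)
    (fun i : Fin (n + 1) => (MvPolynomial.X i : MvPolynomial (Fin (n + 1)) k)) (fun _ => 1) (fun _ => Nat.one_pos)
    (fun i => MvPolynomial.isHomogeneous_X k _) MvPolynomial.adjoin_range_X x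
  exact ⟨⟨_, MvPolynomial.isHomogeneous_X k _⟩, hi⟩

theorem mem_genLocus_sec (f : (𝒫) 1) (x : P) :
    x ∈ CohB1.genLocus (tw n k 1) (sec f) ↔ (f : MvPolynomial (Fin (n + 1)) k) ∉ x.asHomogeneousIdeal := by
  have h : ProjMor.Sec.locus (ZeroCyc99.Twist.gs (𝒜 := 𝒫) f) = Proj.basicOpen (𝒫) f.1 :=
    ZeroCyc99.Twist.locus_globalOf covers_one f
  exact Iff.trans (iff_of_eq (congrArg (x ∈ ·) h)) Iff.rfl

theorem sec_app_one (f : (𝒫) 1) :
    (sec f).app ⊤ (1 : Γ(P, ⊤)) = ZeroCyc99.Twist.gs (𝒜 := 𝒫) f :=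
  Modules.Free.unitHom_app_one (tw n k 1) _

theorem sec_add (f g : (𝒫) 1) : sec (f + g) = sec f + sec g := by
  refine Modules.Free.unitHom_ext ?_
  change _ = (sec f).app ⊤ (1 : Γ(P, ⊤)) + (sec g).app ⊤ (1 : Γ(P, ⊤))
  erw [sec_app_one, sec_app_one, sec_app_one]
  refine Subtype.ext (funext fun x => Subtype.ext ?_)
  exact (Localization.add_mk_self _ _ _).symm

theorem toGlobal_top (c : k) (x : (⊤ : Opens (ProjectiveSpectrum.top (𝒫)))) :
    ((((P).presheaf.map (homOfLE (le_top : (⊤ : (P).Opens) ≤ ⊤)).op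
      (Coh.toGlobal (CohB1.ProjSpace.toSpec n k) c) : Γ(P, ⊤)) : Twist.O (𝒜 := 𝒫) (op ⊤)).1 x).val =
      Localization.mk (MvPolynomial.C c : MvPolynomial (Fin (n + 1)) k) 1 :=
  ProjCoh.Sections.toGlobal_val c x

theorem gs_smul (c : k) (f : (𝒫) 1) :
    @id (Γ(tw n k 1, ⊤)) (ZeroCyc99.Twist.gs (𝒜 := 𝒫) (c • f)) =
      (P).presheaf.map (homOfLE (le_top : (⊤ : (P).Opens) ≤ ⊤)).op (Coh.toGlobal (CohB1.ProjSpace.toSpec n k) c) •
        @id (Γ(tw n k 1, ⊤)) (ZeroCyc99.Twist.gs (𝒜 := 𝒫) f) := by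
  refine ProjMor.Frame.sec_ext fun x => ?_
  refine Eq.trans ?_ (ProjMor.Frame.value_smul _ _ x).symm
  refine Eq.trans ?_ (congrArg (fun z => z * _) (toGlobal_top c x)).symm
  refine Eq.trans ?_ (Localization.mk_mul _ _ _ _).symm
  exact congrArg₂ (fun a b => (Localization.mk a b : Twist.Loc (𝒫) x.1)) (MvPolynomial.smul_eq_C_mul _ _) (mul_one _).symm

theorem sec_smul (c : k) (f : (𝒫) 1) : sec (c • f) = c • sec f := by
  refine Modules.Free.unitHom_ext ?_
  refine ((sec_app_one _).trans ?_).trans (KLin.smul_app_apply c (sec f) ⊤ (1 : Γ(P, ⊤))).symm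
  refine Eq.trans ?_ (congrArg (fun z => _ • z) (sec_app_one f).symm)
  exact gs_smul c f

/-- Linear forms to sections of `O(1)`. -/
def secL : (𝒫) 1 →ₗ[k] (Coh.structureModule P ⟶ tw n k 1) where
  toFun := sec
  map_add' := sec_add
  map_smul' := sec_smul

/-- Multiplication by a linear form, bilinearly. -/
def mulL (M : (P).Modules) :
    (Coh.structureModule P ⟶ M) →ₗ[k] (𝒫) 1 →ₗ[k] (Coh.structureModule P ⟶ CohB1.tensorMod M (tw n k 1)) :=
  LinearMap.mk₂ k (fun w f => w ≫ (mulS (sec f)).app M) (fun _ _ _ => Preadditive.add_comp _ _ _ _ _ _)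
    (fun _ _ _ => Linear.smul_comp _ _ _ _ _ _)
    (fun w f g => by
      change w ≫ (rightUnit M).inv ≫ tmap (𝟙 M) (sec (f + g)) = _
      rw [sec_add, ProjCoh.Horrocks.tmap_add, Preadditive.comp_add, Preadditive.comp_add]
      rfl)
    (fun c w f => by
      change w ≫ (rightUnit M).inv ≫ tmap (𝟙 M) (sec (c • f)) = c • (w ≫ (rightUnit M).inv ≫ tmap (𝟙 M) (sec f))
      have e1 : c • sec f = sec f ≫ (c • 𝟙 (tw n k 1)) := by rw [Linear.comp_smul, Category.comp_id]
      have e2 : tmap (𝟙 M) (sec f ≫ (c • 𝟙 (tw n k 1))) = tmap (𝟙 M) (sec f) ≫ tmap (𝟙 M) (c • 𝟙 (tw n k 1)) := by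
        rw [← tmap_comp, Category.id_comp]
      rw [sec_smul, e1, e2, ExtHH.SheafHom.tensor_map_smul, Linear.comp_smul, Category.comp_id,
        Linear.comp_smul, Linear.comp_smul])

/-- The linear forms vanishing at a point. -/
def ker (x : P) : Submodule k ((𝒫) 1) :=
  (x.asHomogeneousIdeal.toIdeal.restrictScalars k).comap ((𝒫) 1).subtype

/-- A point is closed if one linear form spans modulo those vanishing there. -/
theorem isClosed_of_span (x : P) (g : (𝒫) 1) (hg : g ∉ ker x)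
    (h : ∀ f, f ∈ ker x ⊔ k ∙ g) : IsClosed ({x} : Set P) := by
  let I := x.asHomogeneousIdeal.toIdeal
  have hlin : ∀ i : Fin (n + 1), ∃ a : k,
      MvPolynomial.X i - a • (g : MvPolynomial (Fin (n + 1)) k) ∈ I := fun i => by
    obtain ⟨u, hu, v, hv, huv⟩ := Submodule.mem_sup.1 (h ⟨MvPolynomial.X i, MvPolynomial.isHomogeneous_X k i⟩)
    obtain ⟨a, rfl⟩ := Submodule.mem_span_singleton.1 hv
    refine ⟨a, ?_⟩
    have e := congrArg Subtype.val huv
    simp only [Submodule.coe_add, Submodule.coe_smul] at e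
    rw [← e, add_sub_cancel_right]
    exact hu
  classical
  choose a ha using hlin
  have hhom : ∀ (d : ℕ) (p : MvPolynomial (Fin (n + 1)) k), p ∈ (𝒫) d →
      p - MvPolynomial.eval a p • (g : MvPolynomial (Fin (n + 1)) k) ^ d ∈ I := by
    intro d p hp
    let q := Ideal.Quotient.mkₐ k I
    have hX : ∀ i, q (MvPolynomial.X i) = a i • q g.1 := fun i => by
      rw [← map_smul]; exact Ideal.Quotient.eq.2 (ha i)
    have e : q p = MvPolynomial.aeval (fun i => a i • q g.1) p := by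
      conv_lhs => rw [← MvPolynomial.aeval_X_left_apply p, ← AlgHom.comp_apply, MvPolynomial.comp_aeval]
      simp only [hX]
    refine Ideal.Quotient.eq.1 ?_
    change q p = q (MvPolynomial.eval a p • g.1 ^ d)
    rw [e, map_smul, map_pow, MvPolynomial.aeval_def, MvPolynomial.eval₂_eq, MvPolynomial.eval_eq, Finset.sum_smul]
    refine Finset.sum_congr rfl fun m hm => ?_
    have hdeg : ∑ i ∈ m.support, m i = d := by
      have := hp (MvPolynomial.mem_support_iff.1 hm)
      simpa [Finsupp.weight_apply, Finsupp.sum] using this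
    rw [← Algebra.smul_def, mul_smul]
    simp_rw [smul_pow]
    rw [Finset.prod_smul, Finset.prod_pow_eq_pow_sum, hdeg]
  rw [← closure_eq_iff_isClosed]
  refine Set.Subset.antisymm (fun y hy => ?_) subset_closure
  have hsub : I ≤ y.asHomogeneousIdeal.toIdeal :=
    (ProjectiveSpectrum.as_ideal_le_as_ideal 𝒫 x y).2 ((ProjectiveSpectrum.le_iff_mem_closure 𝒫 x y).2 hy)
  have hgy : (g : MvPolynomial (Fin (n + 1)) k) ∉ y.asHomogeneousIdeal.toIdeal := fun hmem => by
    obtain ⟨i, hi⟩ := ZeroCyc99.Twist.exists_notMem (𝒜 := 𝒫)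
      (fun i : Fin (n + 1) => (MvPolynomial.X i : MvPolynomial (Fin (n + 1)) k)) (fun _ => 1) (fun _ => Nat.one_pos)
      (fun i => MvPolynomial.isHomogeneous_X k _) MvPolynomial.adjoin_range_X y
    refine hi ?_
    have h1 := Ideal.add_mem _ (hsub (ha i)) (Submodule.smul_of_tower_mem _ (a i) hmem)
    rwa [sub_add_cancel] at h1
  refine ProjectiveSpectrum.ext (HomogeneousIdeal.ext (le_antisymm (fun p hp => ?_) hsub))
  rw [← DirectSum.sum_support_decompose (𝒫) p]
  refine Ideal.sum_mem _ fun d _ => ?_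
  have hd := y.asHomogeneousIdeal.2 d hp
  have h2 := hhom d _ (SetLike.coe_mem (DirectSum.decompose (𝒫) p d))
  have h3 := Ideal.sub_mem _ hd (hsub h2)
  rw [sub_sub_cancel] at h3
  rcases eq_or_ne (MvPolynomial.eval a (DirectSum.decompose (𝒫) p d : MvPolynomial (Fin (n + 1)) k)) 0 with h0 | h0
  · rw [h0, zero_smul, sub_zero] at h2; exact h2
  · refine absurd (y.isPrime.mem_of_pow_mem d ?_) hgy
    simpa [smul_smul, inv_mul_cancel₀ h0] using
      Submodule.smul_of_tower_mem y.asHomogeneousIdeal.toIdeal (MvPolynomial.eval a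
        (DirectSum.decompose (𝒫) p d : MvPolynomial (Fin (n + 1)) k))⁻¹ h3

/-- Two linear forms independent at finitely many nonclosed points. -/
theorem exists_pencil [Infinite k] {S : Set P} (hS : S.Finite) (hcl : ∀ x ∈ S, ¬ IsClosed ({x} : Set P)) :
    ∃ f g : (𝒫) 1, ∀ x ∈ S, ∀ a b : k, a • f + b • g ∈ ker x → a = 0 ∧ b = 0 := by
  classical
  haveI := hS.to_subtype
  have hK : ∀ x : S, ker x.1 ≠ ⊤ := fun x htop => by
    obtain ⟨c, hc⟩ := covers_one (n := n) (k := k) x.1
    have : c ∈ ker x.1 := htop ▸ Submodule.mem_top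
    exact hc this
  obtain ⟨g, hg⟩ := Submodule.exists_forall_notMem_of_forall_ne_top (fun x : S => ker x.1) hK
  have hK' : ∀ x : S, ker x.1 ⊔ k ∙ g ≠ ⊤ := fun x htop =>
    hcl x.1 x.2 (isClosed_of_span x.1 g (hg x) fun f => htop ▸ Submodule.mem_top)
  obtain ⟨f, hf⟩ := Submodule.exists_forall_notMem_of_forall_ne_top (fun x : S => ker x.1 ⊔ k ∙ g) hK'
  refine ⟨f, g, fun x hx a b hab => ?_⟩
  have ha : a = 0 := by
    by_contra ha
    refine hf ⟨x, hx⟩ ?_
    have e : f = a⁻¹ • (a • f + b • g) + (-(a⁻¹ * b)) • g := by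
      rw [smul_add, smul_smul, inv_mul_cancel₀ ha, one_smul, smul_smul, add_assoc, ← add_smul, add_neg_cancel,
        zero_smul, add_zero]
    rw [e]
    exact Submodule.add_mem_sup (Submodule.smul_mem _ _ hab) (Submodule.smul_mem _ _ (Submodule.mem_span_singleton_self g))
  subst ha
  refine ⟨rfl, ?_⟩
  by_contra hb
  refine hg ⟨x, hx⟩ ?_
  have := Submodule.smul_mem (ker x) b⁻¹ hab
  simpa [smul_smul, inv_mul_cancel₀ hb] using this

theorem finrank_hom (M : (P).Modules) :
    Module.finrank k (Coh.structureModule P ⟶ M) = Module.finrank k (Coh.HH P M 0) :=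
  (ProjCoh.Horrocks.nonempty_homEquiv M).some.finrank_eq

theorem finite_h0 {M : (P).Modules} (hM : Coh.IsCoh M) : FiniteDimensional k (Coh.HH P M 0) :=
  haveI : IsProper (CohB1.ProjSpace n k ↘ Spec (CommRingCat.of k)) := ProjSpace.Basic.isProper_toSpec n k
  Snapper.Finite.cohFinite k P _ hM 0

theorem finrank_lt [IsAlgClosed k] (F : (P).Modules) (hF : Coh.IsCoh F)
    (hass : ∀ x, Curv2.IsAssPoint F x → ¬ IsClosed ({x} : Set P))
    (h0 : 1 ≤ Module.finrank k (Coh.HH P F 0)) :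
    Module.finrank k (Coh.HH P (tM F (-1)) 0) + 1 ≤ Module.finrank k (Coh.HH P F 0) := by
  by_contra hcon
  haveI := isNoetherian_proj n k
  have hF1 : Coh.IsCoh (tM F (-1)) := isCoh_tensorMod hF (isCoh_tw (-1))
  obtain ⟨f, g, hfg⟩ := exists_pencil (finite_assPoints hF1) fun x hx => hass x (isAssPoint_tM (-1) hx)
  let e : tM (tM F (-1)) 1 ≅ F :=
    twIso2 F (-1) 1 0 (by norm_num) ≪≫ tensorIso (Iso.refl F) twZero ≪≫ rightUnit F
  have hu : Module.finrank k (Coh.structureModule P ⟶ tM (tM F (-1)) 1) = Module.finrank k (Coh.HH P F 0) :=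
    (finrank_hom _).trans (Curves.LES.isoK k e 0).finrank_eq
  have hinj : ∀ a b : k, a ≠ 0 ∨ b ≠ 0 → Function.Injective ((mulL (tM F (-1))).flip (a • f + b • g)) := by
    intro a b hab
    have hm : Mono (nu (sec (a • f + b • g)) F) := UnifReg.Main.mono_nu _ hF fun x hx =>
      (mem_genLocus_sec _ x).2 fun hmem => by
        obtain ⟨rfl, rfl⟩ := hfg x hx a b hmem
        simp at hab
    intro w w' hw
    exact (cancel_mono (nu (sec (a • f + b • g)) F)).1 hw
  haveI : FiniteDimensional k (Coh.structureModule P ⟶ tM F (-1)) :=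
    haveI := finite_h0 hF1; Module.Finite.equiv (ProjCoh.Horrocks.nonempty_homEquiv _).some.symm
  haveI : FiniteDimensional k (Coh.structureModule P ⟶ tM (tM F (-1)) 1) :=
    haveI := finite_h0 (isCoh_tensorMod hF1 (isCoh_tw 1)); Module.Finite.equiv (ProjCoh.Horrocks.nonempty_homEquiv _).some.symm
  let B := (mulL (tM F (-1))).flip
  have hg' := hinj 0 1 (Or.inr one_ne_zero)
  rw [zero_smul, one_smul, zero_add] at hg'
  have hle := LinearMap.finrank_le_finrank_of_injective hg'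
  rw [finrank_hom, hu] at hle
  have hle' : Module.finrank k (Coh.HH P F 0) ≤ Module.finrank k (Coh.HH P (tM F (-1)) 0) := by omega
  have heq : Module.finrank k (Coh.structureModule P ⟶ tM F (-1)) =
      Module.finrank k (Coh.structureModule P ⟶ tM (tM F (-1)) 1) := by rw [finrank_hom, hu]; omega
  let eg := (B g).linearEquivOfInjective hg' heq
  haveI : Nontrivial (Coh.structureModule P ⟶ tM F (-1)) :=
    Module.nontrivial_of_finrank_pos (R := k) (by rw [heq, hu]; omega)
  obtain ⟨c, hc⟩ := Module.End.exists_eigenvalue (eg.symm.toLinearMap ∘ₗ B f)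
  obtain ⟨w, hw, hw0⟩ := hc.exists_hasEigenvector
  have h1 : B f w = c • B g w := by
    have h2 := congrArg eg (Module.End.mem_eigenspace_iff.1 hw)
    simpa [eg] using h2
  refine hw0 (hinj 1 (-c) (Or.inl one_ne_zero) ?_)
  simp only [map_add, map_smul, one_smul, LinearMap.add_apply, LinearMap.smul_apply, map_zero]
  change B f w + (-c) • B g w = 0
  rw [h1, ← add_smul, add_neg_cancel, zero_smul]

end Groth.Agent.H95.H0Drop
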